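import Mathlib
import Cfsg.Agent.LWB.Defs
import Cfsg.Agent.LW.Trans

set_option autoImplicit false

/-! S0747, file `Cfsg/Agent/LWC/Ind.lean`: the group induced on a finite set, the conclusion of S0747 as a
predicate, and its transfer from the group induced on an invariant subset. -/

namespace Cfsg.Agent.LWC

open MulAction Cfsg.Agent.LWB

universe u

variable {α : Type u} [Fintype α] [DecidableEq α] {G : Subgroup (Equiv.Perm α)} {k : ℕ}

/-- the group induced on `Δ` by the elements of `G` mapping `Δ` onto itself -/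
def lwc_ind (G : Subgroup (Equiv.Perm α)) (Δ : Finset α) : Subgroup (Equiv.Perm ↥Δ) where
  carrier := {σ | ∃ g ∈ G, ∀ x : ↥Δ, g (x : α) = σ x}
  one_mem' := ⟨1, G.one_mem, fun x => rfl⟩
  mul_mem' := by
    rintro σ τ ⟨g, hg, hσ⟩ ⟨h, hh, hτ⟩
    refine ⟨g * h, G.mul_mem hg hh, fun x => ?_⟩
    rw [Equiv.Perm.mul_apply, hτ, hσ, Equiv.Perm.mul_apply]
  inv_mem' := by
    rintro σ ⟨g, hg, hσ⟩
    refine ⟨g⁻¹, G.inv_mem hg, fun x => ?_⟩
    have h1 := hσ (σ⁻¹ x)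
    have h2 : σ (σ⁻¹ x) = x := by simp
    rw [h2] at h1
    rw [← h1]
    simp

omit [Fintype α] [DecidableEq α] in
theorem mem_lwc_ind {Δ : Finset α} {σ : Equiv.Perm ↥Δ} :
    σ ∈ lwc_ind G Δ ↔ ∃ g ∈ G, ∀ x : ↥Δ, g (x : α) = σ x := Iff.rfl

/-- the conclusion of S0747 -/
def lwc_Good (G : Subgroup (Equiv.Perm α)) (k : ℕ) : Prop :=
  ∃ Δ : Finset α, Δ.card = k + 1 ∧ ∀ σ : Equiv.Perm ↥Δ, σ ∈ alternatingGroup ↥Δ →
    ∃ g ∈ G, ∀ x : ↥Δ, g (x : α) = σ x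

omit [Fintype α] in
theorem lwc_good_of_le (Δ : Finset α) (hΔ : Δ.card = k + 1)
    (h : alternatingGroup ↥Δ ≤ lwc_ind G Δ) : lwc_Good G k :=
  ⟨Δ, hΔ, fun σ hσ => h hσ⟩

omit [Fintype α] in
theorem lwc_good_of_top (Δ : Finset α) (hΔ : Δ.card = k + 1) (h : lwc_ind G Δ = ⊤) : lwc_Good G k :=
  lwc_good_of_le Δ hΔ (by rw [h]; exact le_top)

omit [Fintype α] in
/-- if every transposition of `Δ` is induced, every permutation is -/
theorem lwc_ind_top_of_swaps (Δ : Finset α)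
    (hsw : ∀ x ∈ Δ, ∀ y ∈ Δ, x ≠ y →
      ∃ g ∈ G, g x = y ∧ g y = x ∧ ∀ w ∈ Δ, w ≠ x → w ≠ y → g w = w) :
    lwc_ind G Δ = ⊤ := by
  rw [eq_top_iff, ← Equiv.Perm.closure_isSwap, Subgroup.closure_le]
  rintro σ ⟨a, b, hab, rfl⟩
  have hab' : (a : α) ≠ (b : α) := fun h => hab (Subtype.ext h)
  obtain ⟨g, hg, hga, hgb, hgw⟩ := hsw a a.2 b b.2 hab'
  refine ⟨g, hg, fun x => ?_⟩
  by_cases hxa : x = a
  · rw [hxa, Equiv.swap_apply_left, hga]
  · by_cases hxb : x = b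
    · rw [hxb, Equiv.swap_apply_right, hgb]
    · rw [Equiv.swap_apply_of_ne_of_ne hxa hxb]
      exact hgw x x.2 (fun h => hxa (Subtype.ext h)) (fun h => hxb (Subtype.ext h))

/-- a `(k+1)`-transitive group induces every permutation of a `(k+1)`-set -/
theorem lwc_ind_top_of_trans (htr : IsMultiplyPretransitive G α (k + 1)) (Δ : Finset α)
    (hΔ : Δ.card = k + 1) : lwc_ind G Δ = ⊤ := by
  rw [eq_top_iff]
  intro σ _
  obtain ⟨e, he⟩ := LW.lw_trans_enum (Δ : Set α) (by rw [Set.ncard_coe_finset, hΔ])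
  have hemem : ∀ i, e i ∈ Δ := by
    intro i
    have : e i ∈ Set.range e := ⟨i, rfl⟩
    rw [he] at this
    exact Finset.mem_coe.1 this
  let e' : Fin (k + 1) ↪ α :=
    ⟨fun i => ((σ ⟨e i, hemem i⟩ : ↥Δ) : α), fun i j hij => by
      have h1 : σ ⟨e i, hemem i⟩ = σ ⟨e j, hemem j⟩ := Subtype.ext hij
      have h2 := σ.injective h1
      exact e.injective (congrArg Subtype.val h2)⟩
  obtain ⟨g, hg⟩ := htr.exists_smul_eq e e'
  refine ⟨(g : Equiv.Perm α), g.2, fun x => ?_⟩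
  have hx : (x : α) ∈ Set.range e := by rw [he]; exact Finset.mem_coe.2 x.2
  obtain ⟨i, hi⟩ := hx
  have h1 := congrArg (fun f : Fin (k + 1) ↪ α => f i) hg
  simp only [Function.Embedding.smul_apply] at h1
  have h2 : (⟨e i, hemem i⟩ : ↥Δ) = x := Subtype.ext hi
  change (g : Equiv.Perm α) (x : α) = ((σ x : ↥Δ) : α)
  rw [← hi]
  change g • e i = _
  rw [h1]
  change ((σ ⟨e i, hemem i⟩ : ↥Δ) : α) = _
  rw [h2]

omit [Fintype α] in
/-- transfer from the group induced on an invariant subset -/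
theorem lwc_good_restrict (H : Subgroup G) (Φ : Finset α) (h : lwc_Good (restrict H Φ) k) :
    lwc_Good G k := by
  classical
  obtain ⟨Δ', hΔ', hσ'⟩ := h
  obtain ⟨Δ, hΔdef⟩ : ∃ Δ : Finset α, Δ = Δ'.map (Function.Embedding.subtype _) := ⟨_, rfl⟩
  have hmem : ∀ x : α, x ∈ Δ → ∃ hx : x ∈ Φ, (⟨x, hx⟩ : ↥Φ) ∈ Δ' := by
    intro x hx
    rw [hΔdef, Finset.mem_map] at hx
    obtain ⟨z, hz, rfl⟩ := hx
    exact ⟨z.2, hz⟩
  have hmem' : ∀ z : ↥Φ, z ∈ Δ' → (z : α) ∈ Δ := by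
    intro z hz
    rw [hΔdef, Finset.mem_map]
    exact ⟨z, hz, rfl⟩
  refine ⟨Δ, by rw [hΔdef, Finset.card_map, hΔ'], ?_⟩
  intro σ hσ
  let e : ↥Δ ≃ ↥Δ' :=
    { toFun := fun x => ⟨⟨x.1, (hmem x.1 x.2).1⟩, (hmem x.1 x.2).2⟩
      invFun := fun z => ⟨z.1.1, hmem' z.1 z.2⟩
      left_inv := fun x => rfl
      right_inv := fun z => rfl }
  have hsign : e.permCongr σ ∈ alternatingGroup ↥Δ' := by
    rw [Equiv.Perm.mem_alternatingGroup, Equiv.Perm.sign_permCongr]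
    exact Equiv.Perm.mem_alternatingGroup.1 hσ
  obtain ⟨ν, hν, hνx⟩ := hσ' (e.permCongr σ) hsign
  obtain ⟨g, hg, hgz⟩ := hν
  refine ⟨(g : Equiv.Perm α), g.2, fun x => ?_⟩
  have h1 := hgz (e x).1
  have h2 := hνx (e x)
  rw [h2] at h1
  have h3 : e.permCongr σ (e x) = e (σ x) := by
    rw [Equiv.permCongr_apply, Equiv.symm_apply_apply]
  rw [h3] at h1
  exact h1.symm

end Cfsg.Agent.LWC
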