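import Mathlib

set_option autoImplicit false

/-! S0747, file `Cfsg/Agent/LWC/IndexGF.lean`: a subgroup of the symmetric group of degree `d ≥ 5` not
containing the alternating group has index at least `d`. -/

namespace Cfsg.Agent.LWC

open Equiv

theorem lwc_gf_index {β : Type*} [Fintype β] [DecidableEq β] (hβ : 5 ≤ Fintype.card β)
    (H : Subgroup (Perm β)) (hH : ¬ alternatingGroup β ≤ H) : Fintype.card β ≤ H.index := by
  by_contra hlt
  push Not at hlt
  have hcore : H.normalCore = ⊥ := by
    by_contra hne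
    have hnt : Nontrivial H.normalCore := (Subgroup.nontrivial_iff_ne_bot _).2 hne
    have := Equiv.Perm.alternatingGroup_le_of_normal (by rw [Nat.card_eq_fintype_card]; exact hβ) hnt
    exact hH (this.trans (Subgroup.normalCore_le H))
  have hinj : Function.Injective (MulAction.toPermHom (Perm β) (Perm β ⧸ H)) := by
    rw [← MonoidHom.ker_eq_bot_iff, ← Subgroup.normalCore_eq_ker, hcore]
  have hle := Nat.card_le_card_of_injective _ hinj
  rw [Nat.card_perm, Nat.card_perm, ← Subgroup.index_eq_card, Nat.card_eq_fintype_card] at hle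
  have hpos : 0 < H.index := Nat.pos_of_ne_zero Subgroup.index_ne_zero_of_finite
  have := (Nat.factorial_lt hpos).2 hlt
  omega

theorem lwc_gf {β : Type*} [Fintype β] [DecidableEq β] (hβ : 5 ≤ Fintype.card β)
    (H : Subgroup (Perm β)) (hH : ¬ alternatingGroup β ≤ H) :
    Nat.card H ≤ (Fintype.card β - 1).factorial := by
  have h1 := lwc_gf_index hβ H hH
  have h2 := H.card_mul_index
  rw [Nat.card_perm, Nat.card_eq_fintype_card (α := β)] at h2
  obtain ⟨d, hd⟩ : ∃ d, Fintype.card β = d + 1 := ⟨Fintype.card β - 1, by omega⟩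
  rw [hd] at h1 h2 ⊢
  rw [Nat.add_sub_cancel, Nat.factorial_succ] at *
  have h3 : Nat.card H * (d + 1) ≤ (d + 1) * d.factorial := by
    rw [← h2]
    exact Nat.mul_le_mul_left _ h1
  have h4 : (d + 1) * Nat.card H ≤ (d + 1) * d.factorial := by rwa [mul_comm] at h3
  exact Nat.le_of_mul_le_mul_left h4 (by omega)

end Cfsg.Agent.LWC
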