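import Mathlib
import Cfsg.Agent.LWB.Defs
import Cfsg.Agent.LWB.Basic
import Cfsg.Agent.LWB.SharpC
import Cfsg.Agent.LW.Main
import Cfsg.Agent.LWC.Ind
import Cfsg.Agent.LWC.IndexGF

set_option autoImplicit false

/-! S0747, file `Cfsg/Agent/LWC/SharpCase.lean`: the case in which all `(t+1)`-point stabilisers are
trivial (the `LW.Sharp` situation). -/

namespace Cfsg.Agent.LWC

open MulAction Cfsg.Agent.LWB
open scoped Pointwise

universe u

variable {α : Type u} [Fintype α] [DecidableEq α] {G : Subgroup (Equiv.Perm α)} {t : ℕ}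

/-- the pointwise stabiliser of at least `t + 1` points is trivial -/
theorem lwc_sharp_fix_bot
    (htriv : ∀ Δ : Finset α, Δ.card = t + 1 → fixingSubgroup G (Δ : Set α) = ⊥)
    (Δ : Set α) (hΔ : t + 1 ≤ Δ.ncard) : fixingSubgroup G Δ = ⊥ := by
  classical
  obtain ⟨Δ', hsub, hcard⟩ := Set.exists_subset_card_eq hΔ
  have hfin : Δ'.Finite := Set.toFinite Δ'
  have hc : hfin.toFinset.card = t + 1 := by
    rw [← Set.ncard_eq_toFinset_card Δ' hfin]; exact hcard
  have h1 := htriv hfin.toFinset hc
  rw [Set.Finite.coe_toFinset] at h1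
  rw [eq_bot_iff, ← h1]
  exact fixingSubgroup_antitone G α hsub

/-- with trivial pointwise stabiliser, the setwise stabiliser embeds into the induced group -/
theorem lwc_sharp_card_stab_le (Δ : Finset α) (hΔ : Δ.card = t + 1)
    (hbot : fixingSubgroup G (Δ : Set α) = ⊥) :
    Nat.card (stabilizer G (Set.powersetCard.ofCard hΔ)) ≤ Nat.card (lwc_ind G Δ) := by
  have key : ∀ γ : G, γ • Δ = Δ → ∀ x : α, (γ : Equiv.Perm α) x ∈ Δ ↔ x ∈ Δ := by
    intro γ h2 x
    constructor
    · intro hx
      have h3 : γ • x ∈ γ • Δ := by rw [h2]; exact hx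
      exact (Finset.smul_mem_smul_finset_iff γ).1 h3
    · intro hx
      have h3 : γ • x ∈ γ • Δ := Finset.smul_mem_smul_finset hx
      rw [h2] at h3
      exact h3
  have hinv : ∀ g : stabilizer G (Set.powersetCard.ofCard hΔ), ∀ x : α,
      ((g : G) : Equiv.Perm α) x ∈ Δ ↔ x ∈ Δ := by
    intro g x
    have h1 : (g : G) • Set.powersetCard.ofCard hΔ = Set.powersetCard.ofCard hΔ := g.2
    exact key (g : G) (congrArg Subtype.val h1) x
  let f : stabilizer G (Set.powersetCard.ofCard hΔ) → lwc_ind G Δ := fun g =>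
    ⟨Equiv.Perm.subtypePerm ((g : G) : Equiv.Perm α) (hinv g),
      ⟨((g : G) : Equiv.Perm α), (g : G).2, fun x => rfl⟩⟩
  have hf : Function.Injective f := by
    intro g₁ g₂ h12
    have h1 : ∀ x : ↥Δ, ((g₁ : G) : Equiv.Perm α) x = ((g₂ : G) : Equiv.Perm α) x := by
      intro x
      have := congrArg (fun σ : lwc_ind G Δ => (((σ : Equiv.Perm ↥Δ) x : ↥Δ) : α)) h12
      exact this
    have h2 : (g₁ : G)⁻¹ * (g₂ : G) ∈ fixingSubgroup G (Δ : Set α) := by
      rw [mem_fixingSubgroup_iff]
      intro x hx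
      rw [mul_smul, inv_smul_eq_iff]
      exact (h1 ⟨x, Finset.mem_coe.1 hx⟩).symm
    rw [hbot, Subgroup.mem_bot, inv_mul_eq_one] at h2
    exact Subtype.ext h2
  exact Nat.card_le_card_of_injective f hf

/-- the counting argument for a sharply `t`-transitive group of degree `t + 7` -/
theorem lwc_sharp_count (ht4 : 4 ≤ t) (hn : t < Fintype.card α) (N c : ℕ) (hcG : Nat.card G = N)
    (hcα : (Nat.card α).choose (t + 1) = c) (hN : c * t.factorial < 2 * N) (hndvd : ¬ c ∣ N)
    (htriv : ∀ Δ : Finset α, Δ.card = t + 1 → fixingSubgroup G (Δ : Set α) = ⊥) :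
    lwc_Good G t := by
  classical
  by_contra hbad
  have hstab : ∀ Δ : Set.powersetCard α (t + 1), Nat.card (stabilizer G Δ) ≤ t.factorial := by
    rintro ⟨Δ, hΔ'⟩
    have hΔ : Δ.card = t + 1 := hΔ'
    have hnot : ¬ alternatingGroup ↥Δ ≤ lwc_ind G Δ := fun hle => hbad (lwc_good_of_le Δ hΔ hle)
    have h1 := lwc_gf (by rw [Fintype.card_coe, hΔ]; omega) (lwc_ind G Δ) hnot
    rw [Fintype.card_coe, hΔ, Nat.add_sub_cancel] at h1
    exact (lwc_sharp_card_stab_le Δ hΔ (htriv Δ hΔ)).trans h1
  have horb : ∀ Δ : Set.powersetCard α (t + 1), N ≤ (orbit G Δ).ncard * t.factorial := by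
    intro Δ
    have h1 := (stabilizer G Δ).index_mul_card
    rw [index_stabilizer, hcG] at h1
    rw [← h1]
    exact Nat.mul_le_mul_left _ (hstab Δ)
  have htrans : IsPretransitive G (Set.powersetCard α (t + 1)) := by
    constructor
    intro Δ₁ Δ₂
    by_contra hno
    have hdisj : Disjoint (orbit G Δ₁) (orbit G Δ₂) := by
      rw [Set.disjoint_left]
      rintro z ⟨g₁, rfl⟩ ⟨g₂, hg₂⟩
      apply hno
      refine ⟨g₂⁻¹ * g₁, ?_⟩
      rw [mul_smul, inv_smul_eq_iff]
      exact hg₂.symm
    have h1 : (orbit G Δ₁ ∪ orbit G Δ₂).ncard ≤ c := by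
      rw [← hcα, ← Set.powersetCard.card, ← Set.ncard_univ]
      exact Set.ncard_le_ncard (Set.subset_univ _) (Set.toFinite _)
    rw [Set.ncard_union_eq hdisj (Set.toFinite _) (Set.toFinite _)] at h1
    have h2 := horb Δ₁
    have h3 := horb Δ₂
    have h4 : 2 * N ≤ c * t.factorial := by
      calc 2 * N = N + N := two_mul N
        _ ≤ (orbit G Δ₁).ncard * t.factorial + (orbit G Δ₂).ncard * t.factorial :=
          Nat.add_le_add h2 h3
        _ = ((orbit G Δ₁).ncard + (orbit G Δ₂).ncard) * t.factorial := (Nat.add_mul _ _ _).symm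
        _ ≤ c * t.factorial := Nat.mul_le_mul_right _ h1
    omega
  obtain ⟨Δ, -, hΔ⟩ := Finset.exists_subset_card_eq (s := (Finset.univ : Finset α)) (n := t + 1)
    (by rw [Finset.card_univ]; omega)
  have h2 := LW.lw_card_of_homog htrans (Set.powersetCard.ofCard hΔ)
  rw [hcG, hcα] at h2
  exact hndvd ⟨_, h2⟩

/-- **Case 1**: all `(t+1)`-point stabilisers are trivial -/
theorem lwc_sharp (ht : 4 ≤ t) (hn : t < Fintype.card α) (htr : IsMultiplyPretransitive G α t)
    (htriv : ∀ Δ : Finset α, Δ.card = t + 1 → fixingSubgroup G (Δ : Set α) = ⊥) :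
    lwc_Good G t := by
  classical
  obtain ⟨Γ, -, hΓ⟩ := Finset.exists_subset_card_eq (s := (Finset.univ : Finset α)) (n := t)
    (by rw [Finset.card_univ]; omega)
  obtain ⟨Δ, -, hΔ⟩ := Finset.exists_subset_card_eq (s := (Finset.univ : Finset α)) (n := t + 1)
    (by rw [Finset.card_univ]; omega)
  obtain ⟨s, hs⟩ : ∃ s, s = Nat.card (fixingSubgroup G (Γ : Set α)) := ⟨_, rfl⟩
  have hspos : 0 < s := by rw [hs]; exact Nat.card_pos
  have hcardG : Nat.card G = (Nat.card α).descFactorial t * s := by
    rw [hs]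
    exact LW.lw_card_of_trans htr (Γ : Set α) (by rw [Set.ncard_coe_finset, hΓ])
  have hcα : Nat.card α = t + (Fintype.card α - t) := by
    rw [Nat.card_eq_fintype_card]; omega
  have hS : LW.Sharp G α t s (Fintype.card α - t) :=
    { trans := htr
      card_α := hcα
      card_G := by rw [hcardG, hcα]
      fix := fun g hg => by
        have h1 : g ∈ fixingSubgroup G (fixedBy α g) :=
          (mem_fixingSubgroup_iff G).2 (fun y hy => hy)
        rw [lwc_sharp_fix_bot htriv _ hg] at h1
        exact Subgroup.mem_bot.1 h1 }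
  have hsall : ∀ Γ' : Finset α, Γ'.card = t → Nat.card (fixingSubgroup G (Γ' : Set α)) = s := by
    intro Γ' hΓ'
    rw [hs]
    exact lwb_basic_cardK_eq htr (by omega) Γ' Γ hΓ' hΓ
  by_cases hev : Even s
  · -- every transposition of `Δ` is induced
    apply lwc_good_of_top Δ hΔ
    apply lwc_ind_top_of_swaps
    intro x hx y hy hxy
    obtain ⟨g, h1, h2, h3⟩ := lwb_sharpc_swap (G := ↥G) (t := t) (by omega)
      (fun Γ' hΓ' => by
        have hfin : Γ'.Finite := Set.toFinite Γ'
        have hc : hfin.toFinset.card = t := by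
          rw [← Set.ncard_eq_toFinset_card Γ' hfin]; exact hΓ'
        have h1 := hsall hfin.toFinset hc
        rw [Set.Finite.coe_toFinset] at h1
        rw [h1]
        exact hev)
      (lwc_sharp_fix_bot htriv) Δ hΔ x hx y hy hxy
    exact ⟨(g : Equiv.Perm α), g.2, h1, h2, h3⟩
  · rw [Nat.not_even_iff_odd] at hev
    by_cases hKtr : ∀ x y : α, x ∉ (Γ : Set α) → y ∉ (Γ : Set α) →
        ∃ g ∈ fixingSubgroup G (Γ : Set α), g • x = y
    · exact lwc_good_of_top Δ hΔ (lwc_ind_top_of_trans
        (LW.lw_succ_trans htr (Γ : Set α) (by rw [Set.ncard_coe_finset, hΓ]) hKtr) Δ hΔ)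
    · push Not at hKtr
      obtain ⟨x, y, hx, hy, hxy⟩ := hKtr
      have hx' : x ∉ Γ := fun h => hx (Finset.mem_coe.2 h)
      have hy' : y ∉ Γ := fun h => hy (Finset.mem_coe.2 h)
      have horb : ∀ z, z ∉ Γ → Nat.card (orbit (fixingSubgroup G (Γ : Set α)) z) = s := by
        intro z hz
        have h1 := lwb_basic_orbit_mul (G := G) Γ z
        rw [htriv (insert z Γ) (by rw [Finset.card_insert_of_notMem hz, hΓ]), Subgroup.card_bot,
          mul_one, ← hs] at h1
        exact h1
      have h2s : 2 * s ≤ Fintype.card α - t := by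
        have h1 : (lwb_basic_orb G Γ x ∪ lwb_basic_orb G Γ y).card ≤ (Finset.univ \ Γ).card :=
          Finset.card_le_card (Finset.union_subset (lwb_basic_orb_subset Γ x hx')
            (lwb_basic_orb_subset Γ y hy'))
        rw [Finset.card_union_of_disjoint (lwb_basic_orb_disjoint Γ x y hxy), lwb_basic_card_orb,
          lwb_basic_card_orb, horb x hx', horb y hy', Finset.card_univ_sdiff, hΓ] at h1
        omega
      by_cases hm3 : 3 ≤ Fintype.card α - t
      · obtain ⟨h7, hs1⟩ := LW.lw_ge4 hS ht hev hm3 h2s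
        have ht5 : t ≤ 5 := by
          by_contra hlt
          rw [hs1, h7] at hS
          exact LW.lw_ge6 hS (by omega)
        have hnα : Nat.card α = t + 7 := by rw [hcα, h7]
        rw [hs1, mul_one, hnα] at hcardG
        have ht45 : t = 4 ∨ t = 5 := by omega
        rcases ht45 with rfl | rfl
        · exact lwc_sharp_count (by norm_num) hn 7920 462 (by rw [hcardG]; decide)
            (by rw [hnα]; decide) (by decide) (by decide) htriv
        · exact lwc_sharp_count (by norm_num) hn 95040 924 (by rw [hcardG]; decide)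
            (by rw [hnα]; decide) (by decide) (by decide) htriv
      · -- `n = t + 2`, `s = 1`: `G` is the alternating group
        have hs1 : s = 1 := by omega
        have hm2 : Fintype.card α = t + 2 := by omega
        have hidx : G.index = 2 := by
          have h1 := G.card_mul_index
          rw [Nat.card_perm, hcardG, hs1, mul_one, Nat.card_eq_fintype_card, hm2] at h1
          have h2 := Nat.factorial_mul_descFactorial (show t ≤ t + 2 by omega)
          rw [Nat.add_sub_cancel_left] at h2
          have h3 : (t + 2).descFactorial t * G.index = (t + 2).descFactorial t * 2 := by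
            rw [h1, ← h2, mul_comm]
            rfl
          have hpos : 0 < (t + 2).descFactorial t := by
            rw [Nat.pos_iff_ne_zero, Ne, Nat.descFactorial_eq_zero_iff_lt]
            omega
          exact Nat.eq_of_mul_eq_mul_left hpos h3
        have hG := Equiv.Perm.eq_alternatingGroup_of_index_eq_two hidx
        refine ⟨Δ, hΔ, fun σ hσ => ⟨Equiv.Perm.ofSubtype σ, ?_, fun z => ?_⟩⟩
        · rw [hG, Equiv.Perm.mem_alternatingGroup, Equiv.Perm.sign_ofSubtype]
          exact Equiv.Perm.mem_alternatingGroup.1 hσ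
        · exact Equiv.Perm.ofSubtype_apply_coe σ z

end Cfsg.Agent.LWC
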