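import Mathlib
import Cfsg.Agent.LWB.Defs
import Cfsg.Agent.LWB.Basic
import Cfsg.Agent.LWB.Syl
import Cfsg.Agent.LWB.Witt
import Cfsg.Agent.LW.Trans

set_option autoImplicit false

/-! S0747, file `Cfsg/Agent/LWC/Step.lean`: the inductive step.  `G` is `t`-transitive, `q ^ a` is the
largest `q`-part of the order of a `(t+1)`-point stabiliser and `Q` is a subgroup of order `q ^ a` fixing
at least `t + 1` points.  Then `N_G(Q)` is `t`-transitive on the fixed points of `Q`. -/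

namespace Cfsg.Agent.LWC

open MulAction Cfsg.Agent.LWB

universe u

variable {α : Type u} [Fintype α] [DecidableEq α] {G : Subgroup (Equiv.Perm α)} {t : ℕ}

/-- Witt's lemma: if `Q` is a Sylow subgroup of the `t`-point stabilisers -/
theorem lwc_step_witt (htr : IsMultiplyPretransitive G α t) (q a : ℕ) [Fact q.Prime]
    (hK : ∀ E : Finset α, E.card = t → ¬ q ^ (a + 1) ∣ Nat.card (fixingSubgroup G (E : Set α)))
    (Q : Subgroup G) (hQ : Nat.card Q = q ^ a) :
    IsMultiplyPretransitive (NQ Q) (fixF Q) t := by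
  constructor
  intro x y
  obtain ⟨f, hf⟩ : ∃ f : (fixF Q) ↪ α, ∀ z, f z = (z : α) := ⟨Function.Embedding.subtype _, fun _ => rfl⟩
  obtain ⟨E₁, hE₁def⟩ : ∃ E : Finset α, E = Finset.univ.map (x.trans f) := ⟨_, rfl⟩
  obtain ⟨E₂, hE₂def⟩ : ∃ E : Finset α, E = Finset.univ.map (y.trans f) := ⟨_, rfl⟩
  have hc₂ : E₂.card = t := by rw [hE₂def, Finset.card_map, Finset.card_univ, Fintype.card_fin]
  have hm₁ : ∀ z, z ∈ E₁ ↔ ∃ i, ((x i : fixF Q) : α) = z := by
    intro z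
    rw [hE₁def, Finset.mem_map]
    constructor
    · rintro ⟨i, -, rfl⟩; exact ⟨i, (hf _).symm⟩
    · rintro ⟨i, rfl⟩; exact ⟨i, Finset.mem_univ _, hf _⟩
  have hm₂ : ∀ z, z ∈ E₂ ↔ ∃ i, ((y i : fixF Q) : α) = z := by
    intro z
    rw [hE₂def, Finset.mem_map]
    constructor
    · rintro ⟨i, -, rfl⟩; exact ⟨i, (hf _).symm⟩
    · rintro ⟨i, rfl⟩; exact ⟨i, Finset.mem_univ _, hf _⟩
  have hE₁ : ∀ z ∈ E₁, z ∈ fixF Q := by
    intro z hz
    obtain ⟨i, rfl⟩ := (hm₁ z).mp hz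
    exact (x i).2
  have hE₂ : ∀ z ∈ E₂, z ∈ fixF Q := by
    intro z hz
    obtain ⟨i, rfl⟩ := (hm₂ z).mp hz
    exact (y i).2
  obtain ⟨γ, hγ⟩ := htr.exists_smul_eq (x.trans f) (y.trans f)
  have hγi : ∀ i, γ • ((x i : fixF Q) : α) = ((y i : fixF Q) : α) := by
    intro i
    have := congrArg (fun e : Fin t ↪ α => e i) hγ
    simp only [Function.Embedding.smul_apply, Function.Embedding.trans_apply, hf] at this
    exact this
  have hg : ∀ z ∈ E₁, γ • z ∈ E₂ := by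
    intro z hz
    obtain ⟨i, rfl⟩ := (hm₁ z).mp hz
    exact (hm₂ _).mpr ⟨i, (hγi i).symm⟩
  have hg' : ∀ z ∈ E₂, γ⁻¹ • z ∈ E₁ := by
    intro z hz
    obtain ⟨i, rfl⟩ := (hm₂ z).mp hz
    rw [← hγi i, inv_smul_smul]
    exact (hm₁ _).mpr ⟨i, rfl⟩
  obtain ⟨σ, hσ, hσz⟩ := lwb_witt_core Q q a hQ E₁ E₂ hE₁ hE₂ (hK E₂ hc₂) γ hg hg'
  refine ⟨⟨σ, hσ⟩, ?_⟩
  ext i
  change ((σ (x i) : fixF Q) : α) = ((y i : fixF Q) : α)
  rw [hσz (x i) ((hm₁ _).mpr ⟨i, rfl⟩), hγi i]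

/-- a `q`-group acting without fixed points on an invariant finite set: `q` divides the size -/
theorem lwc_step_pgroup_dvd (q : ℕ) [Fact q.Prime] (R : Subgroup G) (hR : IsPGroup q R)
    (S : Finset α) (hS : ∀ g ∈ R, ∀ z ∈ S, g • z ∈ S) (hfix : ∀ z ∈ S, ∃ g ∈ R, g • z ≠ z) :
    q ∣ S.card := by
  by_contra hnd
  let S' : SubMulAction ↥R α :=
    { carrier := (S : Set α)
      smul_mem' := by
        rintro g z hz
        exact hS g.1 g.2 z hz }
  have hcard : Nat.card ↥S' = S.card := by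
    rw [← Fintype.card_coe, ← Nat.card_eq_fintype_card]
    exact Nat.card_congr (Equiv.subtypeEquivRight (fun z => Iff.rfl))
  have : Finite ↥S' := Finite.of_injective (fun z : ↥S' => (z : α)) Subtype.val_injective
  obtain ⟨⟨z, hzS⟩, hzfix⟩ :=
    hR.nonempty_fixed_point_of_prime_not_dvd_card ↥S' (by rw [hcard]; exact hnd)
  obtain ⟨g, hg, hgz⟩ := hfix z hzS
  apply hgz
  have := hzfix ⟨g, hg⟩
  exact congrArg Subtype.val this

/-- growth: a `q`-subgroup of `N_G(Q)` fixing a given `t`-subset `Γ'` of `Fix Q` pointwise and moving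
every other point -/
theorem lwc_step_grow (q a : ℕ) [Fact q.Prime]
    (hmax : ∀ Δ : Finset α, Δ.card = t + 1 →
      ¬ q ^ (a + 1) ∣ Nat.card (fixingSubgroup G (Δ : Set α)))
    (hK : ∀ E : Finset α, E.card = t → q ^ (a + 1) ∣ Nat.card (fixingSubgroup G (E : Set α)))
    (Q : Subgroup G) (hQ : Nat.card Q = q ^ a) (Γ' : Finset α) (hΓ' : Γ'.card = t)
    (hΓ'Φ : Γ' ⊆ fixF Q) :
    ∃ Q₂ : Subgroup G, IsPGroup q Q₂ ∧ Q₂ ≤ fixingSubgroup G (Γ' : Set α) ∧
      Q₂ ≤ Subgroup.normalizer (Q : Set G) ∧ ∀ z, z ∉ Γ' → ∃ g ∈ Q₂, g • z ≠ z := by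
  have hQK : Q ≤ fixingSubgroup G (Γ' : Set α) := by
    intro x hx
    rw [mem_fixingSubgroup_iff]
    intro z hz
    exact (mem_fixF.mp (hΓ'Φ (Finset.mem_coe.mp hz))) x hx
  obtain ⟨Q₂, -, hQ₂K, hQ₂N, hQ₂c⟩ := lwb_syl_grow (fixingSubgroup G (Γ' : Set α)) q a (hK Γ' hΓ') Q hQK hQ
  refine ⟨Q₂, IsPGroup.of_card hQ₂c, hQ₂K, hQ₂N, ?_⟩
  intro z hz
  by_contra hcon
  push Not at hcon
  apply hmax (insert z Γ') (by rw [Finset.card_insert_of_notMem hz, hΓ'])
  rw [← hQ₂c]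
  apply Subgroup.card_dvd_of_le
  intro g hg
  rw [mem_fixingSubgroup_iff]
  intro y hy
  simp only [Finset.coe_insert, Set.mem_insert_iff] at hy
  rcases hy with rfl | hy
  · exact hcon g hg
  · exact (mem_fixingSubgroup_iff G).1 (hQ₂K hg) y hy

/-- in the growth case the subgroup of `N_G(Q)` fixing a set `A ⊆ Fix Q` of fewer than `t` points pointwise
is transitive on `Fix Q ∖ A` -/
theorem lwc_step_orbit (q a : ℕ) [Fact q.Prime]
    (hmax : ∀ Δ : Finset α, Δ.card = t + 1 →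
      ¬ q ^ (a + 1) ∣ Nat.card (fixingSubgroup G (Δ : Set α)))
    (hK : ∀ E : Finset α, E.card = t → q ^ (a + 1) ∣ Nat.card (fixingSubgroup G (E : Set α)))
    (Q : Subgroup G) (hQ : Nat.card Q = q ^ a) (hΦ : t + 1 ≤ (fixF Q).card)
    (A : Finset α) (hA : A.card < t) (hAΦ : A ⊆ fixF Q) (v w : α) (hv : v ∈ fixF Q)
    (hw : w ∈ fixF Q) (hvA : v ∉ A) (hwA : w ∉ A) :
    ∃ g ∈ Subgroup.normalizer (Q : Set G), g ∈ fixingSubgroup G (A : Set α) ∧ g • v = w := by
  classical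
  have hq : q.Prime := Fact.out
  by_contra hcon
  push Not at hcon
  have hvw : v ≠ w := by
    intro h
    exact hcon 1 (Subgroup.one_mem _) (Subgroup.one_mem _) (by rw [one_smul, h])
  obtain ⟨Y, hY⟩ : ∃ Y : Subgroup G,
      Y = Subgroup.normalizer (Q : Set G) ⊓ fixingSubgroup G (A : Set α) := ⟨_, rfl⟩
  have hYmem : ∀ g, g ∈ Y ↔ g ∈ Subgroup.normalizer (Q : Set G) ∧ g ∈ fixingSubgroup G (A : Set α) := by
    intro g
    rw [hY, Subgroup.mem_inf]
  obtain ⟨B, hB⟩ : ∃ B : Finset α, B = Finset.univ.filter (fun z => ∃ g ∈ Y, g • v = z) := ⟨_, rfl⟩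
  have hBmem : ∀ z, z ∈ B ↔ ∃ g ∈ Y, g • v = z := by
    intro z
    rw [hB, Finset.mem_filter]
    exact ⟨fun h => h.2, fun h => ⟨Finset.mem_univ _, h⟩⟩
  have hvB : v ∈ B := (hBmem v).2 ⟨1, Subgroup.one_mem _, one_smul _ _⟩
  have hwB : w ∉ B := by
    intro h
    obtain ⟨g, hg, hgv⟩ := (hBmem w).1 h
    exact hcon g ((hYmem g).1 hg).1 ((hYmem g).1 hg).2 hgv
  have hBinv : ∀ g ∈ Y, ∀ z ∈ B, g • z ∈ B := by
    intro g hg z hz
    obtain ⟨y, hy, rfl⟩ := (hBmem z).1 hz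
    exact (hBmem _).2 ⟨g * y, Y.mul_mem hg hy, mul_smul g y v⟩
  have hBA : ∀ z ∈ B, z ∉ A := by
    intro z hz hzA
    obtain ⟨g, hg, rfl⟩ := (hBmem z).1 hz
    have h1 : g • (g • v) = g • v :=
      (mem_fixingSubgroup_iff G).1 ((hYmem g).1 hg).2 _ (Finset.mem_coe.2 hzA)
    exact hvA (smul_left_cancel g h1 ▸ hzA)
  -- a set `E₀` of `t - |A| - 1` further fixed points
  have hcardU : t - A.card - 1 ≤ ((fixF Q) \ (insert v (insert w A))).card := by
    have h1 : (insert v (insert w A)).card ≤ A.card + 2 := by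
      calc (insert v (insert w A)).card ≤ (insert w A).card + 1 := Finset.card_insert_le _ _
        _ ≤ A.card + 1 + 1 := Nat.add_le_add_right (Finset.card_insert_le _ _) 1
    have h2 := Finset.le_card_sdiff (insert v (insert w A)) (fixF Q)
    omega
  obtain ⟨E₀, hE₀sub, hE₀card⟩ := Finset.exists_subset_card_eq hcardU
  have hE₀ : ∀ z ∈ E₀, z ∈ fixF Q ∧ z ≠ v ∧ z ≠ w ∧ z ∉ A := by
    intro z hz
    have := hE₀sub hz
    rw [Finset.mem_sdiff, Finset.mem_insert, Finset.mem_insert] at this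
    push Not at this
    exact ⟨this.1, this.2.1, this.2.2.1, this.2.2.2⟩
  have hdisj : Disjoint A E₀ := by
    rw [Finset.disjoint_left]
    intro z hzA hzE
    exact (hE₀ z hzE).2.2.2 hzA
  have hcardAE : (A ∪ E₀).card = t - 1 := by
    rw [Finset.card_union_of_disjoint hdisj, hE₀card]
    omega
  -- the two `t`-sets
  have key : ∀ u, u ∈ fixF Q → u ∉ A → u ∉ E₀ →
      ∃ R : Subgroup G, IsPGroup q R ∧ R ≤ Y ∧
        (∀ g ∈ R, ∀ z ∈ insert u (A ∪ E₀), g • z = z) ∧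
        ∀ z, z ∉ insert u (A ∪ E₀) → ∃ g ∈ R, g • z ≠ z := by
    intro u huΦ huA huE
    have hu : u ∉ A ∪ E₀ := by
      rw [Finset.mem_union]
      push Not
      exact ⟨huA, huE⟩
    have hc : (insert u (A ∪ E₀)).card = t := by
      rw [Finset.card_insert_of_notMem hu, hcardAE]
      omega
    have hsub : insert u (A ∪ E₀) ⊆ fixF Q := by
      intro z hz
      rw [Finset.mem_insert, Finset.mem_union] at hz
      rcases hz with rfl | hz | hz
      · exact huΦ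
      · exact hAΦ hz
      · exact (hE₀ z hz).1
    obtain ⟨R, hRp, hRK, hRN, hRmove⟩ := lwc_step_grow q a hmax hK Q hQ _ hc hsub
    refine ⟨R, hRp, ?_, ?_, hRmove⟩
    · intro g hg
      rw [hYmem]
      refine ⟨hRN hg, ?_⟩
      rw [mem_fixingSubgroup_iff]
      intro z hz
      apply (mem_fixingSubgroup_iff G).1 (hRK hg) z
      rw [Finset.mem_coe, Finset.mem_insert, Finset.mem_union]
      exact Or.inr (Or.inl (Finset.mem_coe.1 hz))
    · intro g hg z hz
      exact (mem_fixingSubgroup_iff G).1 (hRK hg) z (Finset.mem_coe.2 hz)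
  have hdvd : ∀ u, u ∈ fixF Q → u ∉ A → u ∉ E₀ → q ∣ (B \ insert u (A ∪ E₀)).card := by
    intro u huΦ huA huE
    obtain ⟨R, hRp, hRY, hRfix, hRmove⟩ := key u huΦ huA huE
    apply lwc_step_pgroup_dvd q R hRp
    · intro g hg z hz
      rw [Finset.mem_sdiff] at hz ⊢
      refine ⟨hBinv g (hRY hg) z hz.1, fun hmem => hz.2 ?_⟩
      have h1 : g • (g • z) = g • z := hRfix g hg _ hmem
      exact smul_left_cancel g h1 ▸ hmem
    · intro z hz
      rw [Finset.mem_sdiff] at hz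
      exact hRmove z hz.2
  have hvE : v ∉ E₀ := fun h => (hE₀ v h).2.1 rfl
  have hwE : w ∉ E₀ := fun h => (hE₀ w h).2.2.1 rfl
  have h1 := hdvd v hv hvA hvE
  have h2 := hdvd w hw hwA hwE
  have hins : B \ insert w (A ∪ E₀) = insert v (B \ insert v (A ∪ E₀)) := by
    ext z
    simp only [Finset.mem_sdiff, Finset.mem_insert, Finset.mem_union, not_or]
    constructor
    · rintro ⟨hzB, hzw, hzA, hzE⟩
      by_cases hzv : z = v
      · exact Or.inl hzv
      · exact Or.inr ⟨hzB, hzv, hzA, hzE⟩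
    · rintro (rfl | ⟨hzB, hzv, hzA, hzE⟩)
      · exact ⟨hvB, hvw, hvA, hvE⟩
      · exact ⟨hzB, fun h => hwB (h ▸ hzB), hzA, hzE⟩
  have hvn : v ∉ B \ insert v (A ∪ E₀) := by
    rw [Finset.mem_sdiff, Finset.mem_insert]
    push Not
    intro _
    exact Or.inl rfl
  rw [hins, Finset.card_insert_of_notMem hvn] at h2
  have h3 : q ∣ 1 := (Nat.dvd_add_right h1).1 h2
  exact hq.one_lt.ne' (Nat.dvd_one.1 h3)

/-- in the growth case `N_G(Q)` is `t`-transitive on `Fix Q` -/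
theorem lwc_step_trans (q a : ℕ) [Fact q.Prime]
    (hmax : ∀ Δ : Finset α, Δ.card = t + 1 →
      ¬ q ^ (a + 1) ∣ Nat.card (fixingSubgroup G (Δ : Set α)))
    (hK : ∀ E : Finset α, E.card = t → q ^ (a + 1) ∣ Nat.card (fixingSubgroup G (E : Set α)))
    (Q : Subgroup G) (hQ : Nat.card Q = q ^ a) (hΦ : t + 1 ≤ (fixF Q).card) :
    IsMultiplyPretransitive (NQ Q) (fixF Q) t := by
  classical
  have main : ∀ j, j ≤ t → IsMultiplyPretransitive (NQ Q) (fixF Q) j := by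
    intro j
    induction j with
    | zero => intro _; exact is_zero_pretransitive
    | succ j ih =>
      intro hj
      have ihj := ih (by omega)
      obtain ⟨A', -, hA'⟩ := Finset.exists_subset_card_eq
        (s := (Finset.univ : Finset (fixF Q))) (n := j)
        (by rw [Finset.card_univ, Fintype.card_coe]; omega)
      apply LW.lw_succ_trans ihj (A' : Set (fixF Q)) (by rw [Set.ncard_coe_finset, hA'])
      intro x y hx hy
      obtain ⟨A, hAdef⟩ : ∃ A : Finset α, A = A'.map (Function.Embedding.subtype _) := ⟨_, rfl⟩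
      have hAmem : ∀ z, z ∈ A ↔ ∃ z' : fixF Q, z' ∈ A' ∧ (z' : α) = z := by
        intro z
        rw [hAdef, Finset.mem_map]
        constructor
        · rintro ⟨z', hz', rfl⟩; exact ⟨z', hz', rfl⟩
        · rintro ⟨z', hz', rfl⟩; exact ⟨z', hz', rfl⟩
      have hAc : A.card < t := by rw [hAdef, Finset.card_map, hA']; omega
      have hAΦ : A ⊆ fixF Q := by
        intro z hz
        obtain ⟨z', -, rfl⟩ := (hAmem z).1 hz
        exact z'.2
      have hxA : (x : α) ∉ A := by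
        intro h
        obtain ⟨z', hz', hzz⟩ := (hAmem _).1 h
        have : z' = x := Subtype.ext hzz
        exact hx (Finset.mem_coe.2 (this ▸ hz'))
      have hyA : (y : α) ∉ A := by
        intro h
        obtain ⟨z', hz', hzz⟩ := (hAmem _).1 h
        have : z' = y := Subtype.ext hzz
        exact hy (Finset.mem_coe.2 (this ▸ hz'))
      obtain ⟨g, hgN, hgA, hgxy⟩ := lwc_step_orbit q a hmax hK Q hQ hΦ A hAc hAΦ x y x.2 y.2 hxA hyA
      obtain ⟨σ, hσ, hσz⟩ := exists_restrict (normalizer_fixF Q) hgN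
      refine ⟨⟨σ, hσ⟩, ?_, ?_⟩
      · rw [mem_fixingSubgroup_iff]
        intro z hz
        apply Subtype.ext
        change ((σ z : fixF Q) : α) = (z : α)
        rw [hσz z]
        exact (mem_fixingSubgroup_iff G).1 hgA z (Finset.mem_coe.2 ((hAmem _).2 ⟨z, Finset.mem_coe.1 hz, rfl⟩))
      · apply Subtype.ext
        change ((σ x : fixF Q) : α) = (y : α)
        rw [hσz x, hgxy]
  exact main t le_rfl

/-- **the step**: `N_G(Q)` is `t`-transitive on `Fix Q` -/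
theorem lwc_step (htr : IsMultiplyPretransitive G α t) (hn : t ≤ Fintype.card α) (q a : ℕ)
    [Fact q.Prime]
    (hmax : ∀ Δ : Finset α, Δ.card = t + 1 →
      ¬ q ^ (a + 1) ∣ Nat.card (fixingSubgroup G (Δ : Set α)))
    (Q : Subgroup G) (hQ : Nat.card Q = q ^ a) (hΦ : t + 1 ≤ (fixF Q).card) :
    IsMultiplyPretransitive (NQ Q) (fixF Q) t := by
  obtain ⟨Γ₀, -, hΓ₀⟩ := Finset.exists_subset_card_eq (s := (Finset.univ : Finset α)) (n := t)
    (by rw [Finset.card_univ]; exact hn)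
  by_cases hdvd : q ^ (a + 1) ∣ Nat.card (fixingSubgroup G (Γ₀ : Set α))
  · apply lwc_step_trans q a hmax _ Q hQ hΦ
    intro E hE
    rw [lwb_basic_cardK_eq htr hn E Γ₀ hE hΓ₀]
    exact hdvd
  · apply lwc_step_witt htr q a _ Q hQ
    intro E hE
    rw [lwb_basic_cardK_eq htr hn E Γ₀ hE hΓ₀]
    exact hdvd

end Cfsg.Agent.LWC
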