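import Mathlib
import Cfsg.Agent.LWC.Step
import Cfsg.Agent.LWC.SharpCase

set_option autoImplicit false

/-! S0747, file `Cfsg/Agent/LWC/Main.lean`: a `t`-transitive group of degree `n > t ≥ 4` induces the
alternating group on some `(t+1)`-set.  Strong induction on `n`. -/

namespace Cfsg.Agent.LWC

open MulAction Cfsg.Agent.LWB

universe u

theorem lwc_main (t : ℕ) (ht : 4 ≤ t) :
    ∀ (n : ℕ) (α : Type u) [Fintype α] [DecidableEq α] (G : Subgroup (Equiv.Perm α)),
      Fintype.card α = n → t < n → IsMultiplyPretransitive G α t → lwc_Good G t := by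
  intro n
  induction n using Nat.strong_induction_on with
  | _ n ih =>
    intro α _ _ G hcard hn htr
    by_cases htriv : ∀ Δ : Finset α, Δ.card = t + 1 → fixingSubgroup G (Δ : Set α) = ⊥
    · exact lwc_sharp ht (by omega) htr htriv
    · push Not at htriv
      obtain ⟨Δ₁, hΔ₁, hne⟩ := htriv
      have hc1 : Nat.card (fixingSubgroup G (Δ₁ : Set α)) ≠ 1 :=
        fun h => hne (Subgroup.eq_bot_of_card_eq _ h)
      obtain ⟨q, hq, hqd⟩ := Nat.exists_prime_and_dvd hc1
      haveI : Fact q.Prime := ⟨hq⟩
      -- a `(t+1)`-set whose pointwise stabiliser has the largest `q`-part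
      obtain ⟨S, hS⟩ : ∃ S : Finset (Finset α), S = Finset.powersetCard (t + 1) Finset.univ :=
        ⟨_, rfl⟩
      have hSmem : ∀ Δ : Finset α, Δ ∈ S ↔ Δ.card = t + 1 := by
        intro Δ
        rw [hS, Finset.mem_powersetCard]
        exact ⟨fun h => h.2, fun h => ⟨Finset.subset_univ _, h⟩⟩
      have hSne : S.Nonempty := ⟨Δ₁, (hSmem Δ₁).2 hΔ₁⟩
      obtain ⟨Δ₀, hΔ₀S, hΔ₀max⟩ := Finset.exists_max_image S
        (fun Δ => (Nat.card (fixingSubgroup G (Δ : Set α))).factorization q) hSne
      have hΔ₀ : Δ₀.card = t + 1 := (hSmem Δ₀).1 hΔ₀S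
      obtain ⟨Q, a, hQD, hQc, hadvd, hanot⟩ := lwb_syl_exists (fixingSubgroup G (Δ₀ : Set α)) q
      have ha : a = (Nat.card (fixingSubgroup G (Δ₀ : Set α))).factorization q :=
        lwb_syl_exp_eq _ q a hadvd hanot
      have hmax : ∀ Δ : Finset α, Δ.card = t + 1 →
          ¬ q ^ (a + 1) ∣ Nat.card (fixingSubgroup G (Δ : Set α)) := by
        intro Δ hΔ hd
        have h1 := hΔ₀max Δ ((hSmem Δ).2 hΔ)
        have h2 := (hq.pow_dvd_iff_le_factorization Nat.card_pos.ne').1 hd
        omega
      have ha1 : 1 ≤ a := by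
        have h1 := hΔ₀max Δ₁ ((hSmem Δ₁).2 hΔ₁)
        have h2 := (hq.pow_dvd_iff_le_factorization Nat.card_pos.ne').1
          (show q ^ 1 ∣ Nat.card (fixingSubgroup G (Δ₁ : Set α)) by rw [pow_one]; exact hqd)
        omega
      -- the fixed points of `Q`
      have hΔΦ : Δ₀ ⊆ fixF Q := by
        intro z hz
        rw [mem_fixF]
        intro g hg
        exact (mem_fixingSubgroup_iff G).1 (hQD hg) z (Finset.mem_coe.2 hz)
      have hΦ : t + 1 ≤ (fixF Q).card := by
        rw [← hΔ₀]
        exact Finset.card_le_card hΔΦ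
      have hΦlt : (fixF Q).card < n := by
        rw [← hcard, ← Finset.card_univ]
        apply Finset.card_lt_card
        rw [Finset.ssubset_univ_iff]
        intro huniv
        have hQbot : Q = ⊥ := by
          rw [eq_bot_iff]
          intro g hg
          rw [Subgroup.mem_bot]
          apply Subtype.ext
          apply Equiv.ext
          intro z
          have hz : z ∈ fixF Q := by rw [huniv]; exact Finset.mem_univ z
          exact (mem_fixF.1 hz) g hg
        rw [hQbot, Subgroup.card_bot] at hQc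
        have h1 : 1 < q ^ a := Nat.one_lt_pow (by omega) hq.one_lt
        omega
      have hstep := lwc_step htr (by omega) q a hmax Q hQc hΦ
      have hgood := ih (fixF Q).card hΦlt ↥(fixF Q) (NQ Q) (Fintype.card_coe _) (by omega) hstep
      exact lwc_good_restrict _ _ hgood

end Cfsg.Agent.LWC
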